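import Groth.Agent.Proet.IndEtale
import Groth.Agent.FlatB.FlatDescGlobal

/-!
# Flat finitely presented algebras descend to finitely generated subrings
-/

set_option autoImplicit false
universe u

open CategoryTheory CategoryTheory.Limits TensorProduct

namespace K727.FlatFpGood

open Groth.Agent.Proet Groth.Agent.Proet.IndAlg

theorem spread (A B : Type u) [CommRing A] [CommRing B] [Algebra A B] [Module.Flat A B]
    [Algebra.FinitePresentation A B] :
    ∃ (A₃ : Subalgebra ℤ A) (B₃ : Type u) (_ : CommRing B₃) (_ : Algebra A₃ B₃),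
      A₃.FG ∧ (Module.Flat A₃ B₃ ∧ Algebra.FinitePresentation A₃ B₃) ∧ Nonempty (B ≃ₐ[A] A ⊗[A₃] B₃) := by
  obtain ⟨A₀, B₀, _, _, hfg, hfp, ⟨e⟩⟩ := exists_subalgebra_fg_of_finitePresentation A B
  have h1 : Algebra.FiniteType ℤ A₀ := (Subalgebra.fg_iff_finiteType A₀).mp hfg
  have h2 : IsNoetherianRing A₀ := Algebra.FiniteType.isNoetherianRing ℤ A₀
  have h3 : Module.Flat A (A ⊗[A₀] B₀) := Module.Flat.of_linearEquiv e.symm.toLinearEquiv
  obtain ⟨A₂, _, _, _, hst, hft, hflat⟩ :=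
    Groth.Agent.FlatB.FlatDescGlobal.exists_flat_model (A := A₀) (B := B₀) (R := A)
  let φ : A₂ →ₐ[ℤ] A := (algebraMap A₂ A).toIntAlgHom
  let A₃ : Subalgebra ℤ A := φ.range
  have hle : ∀ x : A₀, (x : A) ∈ A₃ := fun x => ⟨algebraMap A₀ A₂ x, by
    change algebraMap A₂ A (algebraMap A₀ A₂ x) = _
    rw [← IsScalarTower.algebraMap_apply]
    rfl⟩
  letI : Algebra A₀ A₃ := (Subalgebra.inclusion (fun x hx => hle ⟨x, hx⟩)).toRingHom.toAlgebra
  letI : Algebra A₂ A₃ := φ.rangeRestrict.toRingHom.toAlgebra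
  haveI : IsScalarTower A₀ A₂ A₃ := IsScalarTower.of_algebraMap_eq fun x => Subtype.ext (by
    change (x : A) = algebraMap A₂ A (algebraMap A₀ A₂ x)
    rw [← IsScalarTower.algebraMap_apply]
    rfl)
  haveI : IsScalarTower A₀ A₃ A := IsScalarTower.of_algebraMap_eq fun x => rfl
  have h4 : Module.Flat A₃ (A₃ ⊗[A₀] B₀) :=
    Module.Flat.of_linearEquiv (AlgebraTensorModule.cancelBaseChange A₀ A₂ A₃ A₃ B₀).symm
  refine ⟨A₃, A₃ ⊗[A₀] B₀, inferInstance, inferInstance, ?_, ⟨h4, inferInstance⟩,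
    ⟨e.trans (Algebra.TensorProduct.cancelBaseChange A₀ A₃ A A B₀).symm⟩⟩
  have h5 : Algebra.FiniteType ℤ A₂ := Algebra.FiniteType.trans (S := A₀) h1 hft
  have h6 : Algebra.FiniteType ℤ A₃ := h5.of_surjective φ.rangeRestrict φ.rangeRestrict_surjective
  exact (Subalgebra.fg_iff_finiteType A₃).mpr h6

theorem good_flatfp : Good.{u} (fun R S => Module.Flat R S ∧ Algebra.FinitePresentation R S) where
  fp R S _ _ _ h := h.2
  self A _ := ⟨inferInstance, inferInstance⟩
  of_algEquiv A B B' _ _ _ _ _ e h := by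
    obtain ⟨h1, h2⟩ := h
    exact ⟨Module.Flat.of_linearEquiv e.symm.toLinearEquiv, h2.equiv e⟩
  baseChange A A' B _ _ _ _ _ h := by
    obtain ⟨h1, h2⟩ := h
    exact ⟨inferInstance, inferInstance⟩
  trans A B C _ _ _ _ _ _ _ h1 h2 := by
    obtain ⟨h1, h1'⟩ := h1
    obtain ⟨h2, h2'⟩ := h2
    exact ⟨Module.Flat.trans A B C, Algebra.FinitePresentation.trans A B C⟩
  spread A B _ _ _ h := by
    obtain ⟨h1, h2⟩ := h
    exact spread A B

end K727.FlatFpGood
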